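import Cfsg.Agent.Lib.Star.Orbit

/-!
# Counting characters of a block of a given degree by the focal subgroup
-/

set_option autoImplicit false
set_option linter.unusedSectionVars false
set_option linter.style.haveILetI false
set_option maxHeartbeats 1000000

namespace Cfsg.Agent.Lib.Star

open Cfsg Cfsg.Agent.Lib Cfsg.Agent.Lib.Block Cfsg.Agent.Lib.BrauerPairs
open scoped ComplexConjugate

universe u

variable {p : ℕ} {M : Ideal AlgInt} [M.IsPrime] {G : Type u} [Group G] [Finite G]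
  {B : Set (IrrCharacter G)} {P : Subgroup G} {e : CBlock P}

/-- The same divisor for the members of a given height and degree. -/
theorem dvd_card_height_degree (hM : IsPModular p M) (hmax : IsMaximalBrauerPair p M B P e)
    {F : FusionSystem P} (hF : IsBlockFusionSystemOn p M B P e F) {Z : Subgroup G} (hZP : Z ≤ P)
    (h c : ℕ)
    (hne : ∀ z ∈ Z, ∀ χ : IrrCharacter G, χ ∈ B → blockHeight p B (χ : G → ℂ) = h →
      ∃ s : Subgroup.centralizer (Subgroup.zpowers z : Set G), ¬ p ∣ orderOf s ∧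
        sec M (χ : G → ℂ) z (below p M P e z) (z * (s : G)) ≠ 0) :
    ((Z ⊓ F.focalSubgroup).subgroupOf Z).index ∣
      Nat.card {χ : IrrCharacter G //
        χ ∈ B ∧ blockHeight p B (χ : G → ℂ) = h ∧ charDegree (χ : G → ℂ) = c} := by
  classical
  haveI : Fact p.Prime := ⟨hM.1⟩
  obtain ⟨hP, he, hB, -⟩ := (isBrauerPairOf_iff hM).1 hmax.1
  set K := F.focalSubgroup.subgroupOf P with hK
  have hfoc : ∀ (Q : Subgroup G) (φ : Q →* G) (x : Q), φ ∈ F.Hom Q →
      (x : G)⁻¹ * φ x ∈ F.focalSubgroup := fun Q φ x hφ =>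
    Subgroup.subset_closure ⟨Q, φ, x, hφ, rfl⟩
  have hcomm : ∀ a b : P, a⁻¹ * (b * a * b⁻¹) ∈ K := fun a b =>
    Subgroup.mem_subgroupOf.2 (hfoc P (conjHom P (b : G)) a (F.conj_mem le_rfl b.2))
  haveI : K.Normal := ⟨fun k hk b => by
    have := K.mul_mem hk (hcomm k b)
    rwa [mul_inv_cancel_left] at this⟩
  letI : CommGroup (P ⧸ K) :=
    { (inferInstance : Group (P ⧸ K)) with
      mul_comm := fun a b => by
        induction a using QuotientGroup.induction_on with
        | H a =>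
          induction b using QuotientGroup.induction_on with
          | H b =>
            rw [← QuotientGroup.mk_mul, ← QuotientGroup.mk_mul, QuotientGroup.eq]
            have h1 := hcomm a⁻¹ b⁻¹
            have : (a * b)⁻¹ * (b * a) = (b⁻¹ * a⁻¹ * b * a) := by group
            rw [this]
            have h2 : b⁻¹ * a⁻¹ * b * a = a⁻¹ * (a⁻¹⁻¹ * (b⁻¹ * a⁻¹ * b⁻¹⁻¹)) * a⁻¹⁻¹ := by group
            rw [h2]
            exact (inferInstance : K.Normal).conj_mem _ h1 _ }
  set X := {χ : IrrCharacter G //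
    χ ∈ B ∧ blockHeight p B (χ : G → ℂ) = h ∧ charDegree (χ : G → ℂ) = c}
  have hstab : ∀ φ : (P ⧸ K) →* ℂˣ, StableFn p M P e (lamQ P K φ) := by
    intro φ
    refine stableFn_of_fusion hM hF fun Q ψ hψ x => ?_
    obtain ⟨hQP, hψP⟩ := F.le_of_mem hψ
    rw [lamQ_apply K φ (hψP x), lamQ_apply K φ (hQP x.2)]
    congr 2
    exact (QuotientGroup.eq.2 (Subgroup.mem_subgroupOf.2 (hfoc Q ψ x hψ))).symm
  have hgen : ∀ φ : (P ⧸ K) →* ℂˣ,
      IsGeneralizedCharacter P fun z : P => lamQ P K φ (z : G) := fun φ => by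
    rw [show (fun z : P => lamQ P K φ (z : G)) =
      fun z : P => ((φ.comp (QuotientGroup.mk' K) z : ℂˣ) : ℂ) from
      funext fun z => lamQ_apply K φ z.2]
    exact Dade.generalized_of_isCharacter
      (Char.isCharacter_of_isIrr (Char.isIrrCharacter_linear _))
  have hone : ∀ φ : (P ⧸ K) →* ℂˣ, lamQ P K φ 1 = 1 := fun φ => by
    rw [lamQ_apply K φ P.one_mem, show (⟨(1 : G), P.one_mem⟩ : P) = 1 from rfl, map_one, map_one,
      Units.val_one]
  have hunit : ∀ φ : (P ⧸ K) →* ℂˣ, ∀ z ∈ P, lamQ P K φ z * conj (lamQ P K φ z) = 1 := by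
    intro φ z hz
    rw [lamQ_apply K φ hz, Complex.mul_conj, Complex.normSq_eq_norm_sq]
    have : ‖((φ (QuotientGroup.mk' K ⟨z, hz⟩) : ℂˣ) : ℂ)‖ = 1 := by
      refine Complex.norm_eq_one_of_pow_eq_one (n := orderOf (QuotientGroup.mk' K ⟨z, hz⟩)) ?_
        (orderOf_pos _).ne'
      rw [← Units.val_pow_eq_pow_val, ← map_pow, pow_orderOf_eq_one, map_one, Units.val_one]
    rw [this]; norm_num
  have hact : ∀ (φ : (P ⧸ K) →* ℂˣ) (χ : X), ∃ χ' : X,
      ((χ'.1 : IrrCharacter G) : G → ℂ) =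
        starFn p M (weight p M P e (lamQ P K φ)) ((χ.1 : IrrCharacter G) : G → ℂ) := by
    intro φ χ
    obtain ⟨χ', h1, h2, h3⟩ :=
      exists_star_irr hM hmax (hstab φ) (hgen φ) (hunit φ) (hone φ) χ.2.1
    refine ⟨⟨χ', h1, ?_⟩, h2⟩
    have hd : charDegree (χ' : G → ℂ) = charDegree ((χ.1 : IrrCharacter G) : G → ℂ) := by
      rw [charDegree, charDegree, h3]
    refine ⟨?_, hd.trans χ.2.2.2⟩
    rw [← χ.2.2.1, blockHeight, blockHeight, hd]
  choose act hact' using hact
  letI : MulAction ((P ⧸ K) →* ℂˣ) X :=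
    { smul := act
      one_smul := fun χ => by
        refine Subtype.ext (Subtype.ext ((hact' 1 χ).trans (funext fun g => ?_)))
        refine Eq.trans ?_ (starFn_one hM (Char.isClassFunction_of_isIrr χ.1.2) g)
        refine starFn_congr_pairs hM hB χ.2.1 (fun u f hp => ?_) g
        obtain ⟨y, hy, -, h3⟩ := weight_pair hM hmax (hstab 1) hp
        rw [h3, lamQ_apply K 1 hy]
        simp
      mul_smul := fun φ ψ χ => by
        refine Subtype.ext (Subtype.ext ((hact' (φ * ψ) χ).trans ?_))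
        refine Eq.trans ?_ (hact' φ (act ψ χ)).symm
        rw [hact' ψ χ]
        funext g
        rw [starFn_starFn hM (isEquivariant_weight (p := p) (hstab ψ))
          (Char.isClassFunction_of_isIrr χ.1.2) g]
        congr 1
        funext u a
        exact weight_mul (hstab φ) (hstab ψ) (hstab (φ * ψ)) (fun z hz => by
          rw [lamQ_apply K _ hz, lamQ_apply K _ hz, lamQ_apply K _ hz, MonoidHom.mul_apply,
            Units.val_mul]) u a }
  set f : Z →* P ⧸ K := (QuotientGroup.mk' K).comp (Subgroup.inclusion hZP) with hf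
  have hker : f.ker = (Z ⊓ F.focalSubgroup).subgroupOf Z := by
    ext z
    rw [MonoidHom.mem_ker, Subgroup.mem_subgroupOf]
    simp [hf, hK, Subgroup.mem_subgroupOf, QuotientGroup.eq_one_iff]
  rw [← hker, Subgroup.index_ker]
  haveI : Finite ((P ⧸ K) →* ℂˣ) :=
    Nat.finite_of_card_ne_zero (by
      rw [CommGroup.card_monoidHom_of_hasEnoughRootsOfUnity]; exact Nat.card_pos.ne')
  set N := (MonoidHom.domRestrictHom f.range ℂˣ).ker with hN
  have hNi : N.index = Nat.card f.range := by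
    have h1 := N.card_mul_index
    rw [CommGroup.card_domRestrictHom_ker ℂ f.range,
      CommGroup.card_monoidHom_of_hasEnoughRootsOfUnity,
      Subgroup.card_eq_card_quotient_mul_card_subgroup f.range] at h1
    exact Nat.eq_of_mul_eq_mul_left Nat.card_pos h1
  rw [← hNi]
  refine index_dvd_card N fun χ φ hφ => ?_
  rw [hN, MonoidHom.mem_ker]
  refine MonoidHom.ext fun w => Units.ext ?_
  obtain ⟨z, hz⟩ := w.2
  obtain ⟨s, hs, hs'⟩ := hne _ z.2 χ.1 χ.2.1 χ.2.2.1
  obtain ⟨g, hg, -, hb⟩ := exists_below hM hP he (hZP z.2)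
  have hfix : starFn p M (weight p M P e (lamQ P K φ)) ((χ.1 : IrrCharacter G) : G → ℂ) =
      ((χ.1 : IrrCharacter G) : G → ℂ) := by
    rw [← hact' φ χ]
    have : act φ χ = χ := hφ
    rw [this]
  have h1 := eq_one_of_fixed hM (hstab φ) (Char.isClassFunction_of_isIrr χ.1.2) hfix (hZP z.2)
    (Block.isPElem_of_mem hP (hZP z.2)) (hb ▸ mem_pset.2 ⟨g, hg, rfl⟩) hs hs'
  rw [lamQ_apply K φ (hZP z.2)] at h1
  show ((φ (w : P ⧸ K) : ℂˣ) : ℂ) = _
  rw [← hz]
  exact h1.trans (by simp)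

end Cfsg.Agent.Lib.Star
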